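import Cfsg.Agent.Lib.Signalizer.PAction
import Cfsg.Agent.Lib.NilGroup.Basic

/-!
# Fitting length and coprime action of an elementary abelian group

* `res H`: the nilpotent residual of a subgroup, `resIter H m` its iterates
* `exists_centralizer_resIter_ne_bot`: if an elementary abelian `p`-group `A` acts on a solvable
  `p'`-group `X` with `resIter X m ≠ ⊥`, some `B ≤ A` of index at most `p ^ (m+1)` already has
  `resIter (C_X(B)) m ≠ ⊥`
* `resIter_eq_bot_of_centralizers`: the Fitting length bound from rank `n + 2`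
-/

set_option autoImplicit false

namespace Cfsg.Agent.FittingLength

open Subgroup
open scoped commutatorElement Pointwise

universe u

variable {G : Type u} [Group G]

/-- The nilpotent residual of a subgroup. -/
def res (H : Subgroup G) : Subgroup G := ⨅ k, H.lowerCentralSeries k

/-- The iterated nilpotent residual. -/
def resIter (H : Subgroup G) (m : ℕ) : Subgroup G := res^[m] H

theorem resIter_zero (H : Subgroup G) : resIter H 0 = H := rfl

theorem resIter_succ (H : Subgroup G) (m : ℕ) : resIter H (m + 1) = res (resIter H m) :=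
  Function.iterate_succ_apply' res m H

theorem res_le (H : Subgroup G) : res H ≤ H := iInf_le _ 0

theorem res_eq_of_stable {H : Subgroup G} {N : ℕ}
    (h : H.lowerCentralSeries (N + 1) = H.lowerCentralSeries N) :
    res H = H.lowerCentralSeries N := by
  refine le_antisymm (iInf_le _ N) (le_iInf fun k => ?_)
  rcases le_total k N with hk | hk
  · exact H.lowerCentralSeries_antitone hk
  · induction k, hk using Nat.le_induction with
    | base => exact le_rfl
    | succ k _ ih =>
      calc H.lowerCentralSeries N = ⁅H.lowerCentralSeries N, H⁆ := h.symm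
        _ ≤ ⁅H.lowerCentralSeries k, H⁆ := commutator_mono ih le_rfl
        _ = _ := rfl

theorem exists_res_eq [Finite G] (H : Subgroup G) :
    ∃ N, ∀ k, N ≤ k → H.lowerCentralSeries k = res H := by
  classical
  obtain ⟨N, hN⟩ : ∃ N, ∀ k, N ≤ k → H.lowerCentralSeries k = H.lowerCentralSeries N := by
    obtain ⟨K, ⟨N, rfl⟩, hmin⟩ := exists_minimal_of_wellFoundedLT
      (fun K : Subgroup G => ∃ n, H.lowerCentralSeries n = K) ⟨_, 0, rfl⟩
    exact ⟨N, fun k hk => le_antisymm (H.lowerCentralSeries_antitone hk)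
      (hmin ⟨k, rfl⟩ (H.lowerCentralSeries_antitone hk))⟩
  exact ⟨N, fun k hk => by rw [hN k hk, res_eq_of_stable (hN (N + 1) (Nat.le_succ N))]⟩

theorem res_mono {H K : Subgroup G} (h : H ≤ K) : res H ≤ res K := by
  refine le_iInf fun k => le_trans (iInf_le _ k) ?_
  induction k with
  | zero => exact h
  | succ k ih => exact commutator_mono ih h

theorem resIter_mono {H K : Subgroup G} (h : H ≤ K) (m : ℕ) : resIter H m ≤ resIter K m := by
  induction m with
  | zero => exact h
  | succ m ih => rw [resIter_succ, resIter_succ]; exact res_mono ih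

theorem resIter_le (H : Subgroup G) (m : ℕ) : resIter H m ≤ H := by
  induction m with
  | zero => exact le_rfl
  | succ m ih => rw [resIter_succ]; exact (res_le _).trans ih

variable [Finite G]

theorem map_res {K : Type*} [Group K] [Finite K] (f : G →* K) (H : Subgroup G) :
    (res H).map f = res (H.map f) := by
  obtain ⟨N, hN⟩ := exists_res_eq H
  obtain ⟨M, hM⟩ := exists_res_eq (H.map f)
  rw [← hN (max N M) (le_max_left _ _), ← hM (max N M) (le_max_right _ _), map_lowerCentralSeries]

theorem map_resIter {K : Type*} [Group K] [Finite K] (f : G →* K) (H : Subgroup G) (m : ℕ) :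
    (resIter H m).map f = resIter (H.map f) m := by
  induction m with
  | zero => rfl
  | succ m ih => rw [resIter_succ, resIter_succ, map_res, ih]

theorem res_commutator_self (H : Subgroup G) : ⁅res H, H⁆ = res H := by
  obtain ⟨N, hN⟩ := exists_res_eq H
  have h := hN (N + 1) (Nat.le_succ N)
  rw [Subgroup.lowerCentralSeries_succ, hN N le_rfl] at h
  exact h

theorem le_normalizer_resIter (H : Subgroup G) (m : ℕ) :
    normalizer (H : Set G) ≤ normalizer (resIter H m : Set G) := by
  intro g hg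
  refine Signalizer.mem_normalizer_of_conj_mem fun x hx => ?_
  have hHg : H.map (MulAut.conj g).toMonoidHom = H :=
    Subgroup.ext fun y => by
      rw [Signalizer.mem_map_conj]
      constructor
      · intro hy
        have := (mem_normalizer_iff.1 hg _).1 hy
        group at this
        simpa using this
      · intro hy
        have := (mem_normalizer_iff.1 (inv_mem hg) _).1 hy
        simpa using this
  have h2 := map_resIter (MulAut.conj g).toMonoidHom H m
  rw [hHg] at h2
  exact h2 ▸ ⟨x, hx, rfl⟩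

theorem normal_resIter (H : Subgroup G) [H.Normal] (m : ℕ) : (resIter H m).Normal := by
  rw [← normalizer_eq_top_iff, eq_top_iff]
  exact le_trans (le_of_eq (Subgroup.normalizer_eq_top H).symm) (le_normalizer_resIter H m)

theorem isNilpotent_of_res_eq_bot {H : Subgroup G} (h : res H = ⊥) : Group.IsNilpotent H := by
  obtain ⟨N, hN⟩ := exists_res_eq H
  exact H.isNilpotent_iff_lowerCentralSeries.2 ⟨N, (hN N le_rfl).trans h⟩

/-! ## Lifting fixed points along a homomorphism -/

theorem exists_preimage {p : ℕ} [Fact p.Prime] {Q : Type*} [Group Q] (f : G →* Q)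
    {A X : Subgroup G} [X.Normal] (hA : IsPGroup p A) (hp : ¬ p ∣ Nat.card X)
    {B' : Subgroup Q} (hB' : B' ≤ A.map f) :
    ∃ B : Subgroup G, B ≤ A ∧ B.relIndex A = B'.relIndex (A.map f) ∧
      X.map f ⊓ centralizer (B' : Set Q) ≤ (X ⊓ centralizer (B : Set G)).map f := by
  refine ⟨A ⊓ B'.comap f, inf_le_left, ?_, ?_⟩
  · rw [inf_comm, inf_relIndex_right, relIndex_comap]
  rintro _ ⟨⟨g, hg, rfl⟩, hgB⟩
  have hBn : A ⊓ B'.comap f ≤ normalizer ((X ⊓ f.ker : Subgroup G) : Set G) := by
    rw [normalizer_eq_top]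
    exact le_top
  obtain ⟨n, ⟨hnX, hnk⟩, hng⟩ := Signalizer.exists_fixed_in_coset
    (hA.to_le (inf_le_left : A ⊓ B'.comap f ≤ A)) hBn
    (Signalizer.not_dvd_card_of_le inf_le_left hp) g (fun a ha => by
      refine ⟨X.mul_mem (‹X.Normal›.conj_mem g hg a) (X.inv_mem hg), ?_⟩
      have hc := Signalizer.mem_centralizer_iff_conj.1 hgB (f a) ha.2
      show f _ = 1
      rw [map_mul, map_mul, map_mul, map_inv, map_inv, hc, mul_inv_cancel])
  refine ⟨n * g, ⟨X.mul_mem hnX hg, hng⟩, ?_⟩
  rw [map_mul, MonoidHom.mem_ker.1 hnk, one_mul]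

/-! ## Minimal normal subgroups of solvable groups -/

theorem exists_minimal_normal {D : Subgroup G} [D.Normal] (hD : D ≠ ⊥) :
    ∃ V : Subgroup G, V.Normal ∧ V ≤ D ∧ V ≠ ⊥ ∧
      ∀ W : Subgroup G, W.Normal → W ≤ V → W ≠ ⊥ → W = V := by
  obtain ⟨V, hV, hmin⟩ := exists_minimal_of_wellFoundedLT
    (fun W : Subgroup G => W.Normal ∧ W ≤ D ∧ W ≠ ⊥) ⟨D, ‹_›, le_rfl, hD⟩
  exact ⟨V, hV.1, hV.2.1, hV.2.2, fun W hW hWV hW1 =>
    le_antisymm hWV (hmin ⟨hW, hWV.trans hV.2.1, hW1⟩ hWV)⟩

theorem minimal_normal_abelian_pgroup {V : Subgroup G} [V.Normal] (hV : V ≠ ⊥)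
    (hsol : Group.IsSolvable V)
    (hmin : ∀ W : Subgroup G, W.Normal → W ≤ V → W ≠ ⊥ → W = V) :
    (∀ x ∈ V, ∀ y ∈ V, x * y = y * x) ∧ ∃ q : ℕ, q.Prime ∧ q ∣ Nat.card V ∧ IsPGroup q V := by
  have : Nontrivial V := (nontrivial_iff_ne_bot V).2 hV
  have hcomm : ⁅V, V⁆ = ⊥ := by
    by_contra hne
    have heq := hmin ⁅V, V⁆ inferInstance (commutator_le_left V V) hne
    have hlt := Group.IsSolvable.commutator_lt_top_of_nontrivial (G := V)
    refine hlt.ne ?_
    apply map_injective V.subtype_injective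
    rw [map_subtype_commutator, heq, ← MonoidHom.range_eq_map, range_subtype]
  have hab : ∀ x ∈ V, ∀ y ∈ V, x * y = y * x := fun x hx y hy =>
    commutatorElement_eq_one_iff_mul_comm.1 ((mem_bot).1 (hcomm ▸ commutator_mem_commutator hx hy))
  refine ⟨hab, ?_⟩
  obtain ⟨q, hq, hqd⟩ := Nat.exists_prime_and_dvd (one_lt_card_iff_ne_bot _ |>.2 hV).ne'
  have : Fact q.Prime := ⟨hq⟩
  let W : Subgroup G :=
    { carrier := {x | x ∈ V ∧ ∃ k : ℕ, x ^ q ^ k = 1}
      one_mem' := ⟨V.one_mem, 0, by simp⟩
      mul_mem' := by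
        rintro a b ⟨ha, i, hi⟩ ⟨hb, j, hj⟩
        refine ⟨V.mul_mem ha hb, i + j, ?_⟩
        have hc : Commute a b := hab a ha b hb
        rw [hc.mul_pow, pow_add]
        rw [pow_mul, hi, one_pow, one_mul, mul_comm, pow_mul, hj, one_pow]
      inv_mem' := by
        rintro a ⟨ha, i, hi⟩
        exact ⟨V.inv_mem ha, i, by rw [inv_pow, hi, inv_one]⟩ }
  have hWn : W.Normal := ⟨fun x hx g => ⟨‹V.Normal›.conj_mem x hx.1 g, by
    obtain ⟨k, hk⟩ := hx.2
    exact ⟨k, by rw [conj_pow, hk]; group⟩⟩⟩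
  have hW1 : W ≠ ⊥ := by
    obtain ⟨x, hx⟩ := exists_prime_orderOf_dvd_card' q hqd
    intro h
    have hxW : (x : G) ∈ W := ⟨x.2, 1, by
      rw [pow_one, ← hx, ← SubmonoidClass.coe_pow, pow_orderOf_eq_one, OneMemClass.coe_one]⟩
    rw [h, mem_bot] at hxW
    rw [← orderOf_coe, hxW, orderOf_one] at hx
    exact hq.one_lt.ne hx
  have hWV : W = V := hmin W hWn (fun x hx => hx.1) hW1
  refine ⟨q, hq, hqd, fun x => ?_⟩
  obtain ⟨k, hk⟩ := ((hWV.symm ▸ x.2 : (x : G) ∈ W)).2
  exact ⟨k, Subtype.ext (by rw [SubmonoidClass.coe_pow, hk]; rfl)⟩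

/-- A nilpotent normal section acting faithfully on a minimal normal `q`-group is a `q'`-group. -/
theorem not_dvd_card_of_faithful {Q : Type*} [Group Q] [Finite Q] (f : G →* Q)
    (hf : Function.Surjective f) {V : Subgroup G} [V.Normal] {q : ℕ} [Fact q.Prime]
    (hVq : IsPGroup q V) (hq : q ∣ Nat.card V)
    (hker : f.ker = centralizer (V : Set G))
    (hmin : ∀ W : Subgroup G, W.Normal → W ≤ V → W ≠ ⊥ → W = V)
    {K : Subgroup Q} [K.Normal] (hK : Group.IsNilpotent K) : ¬ q ∣ Nat.card K := by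
  intro hdvd
  obtain ⟨S⟩ := (inferInstance : Nonempty (Sylow q K))
  have hSn : (S : Subgroup K).Normal :=
    ((Group.isNilpotent_of_finite_tfae (G := K)).out 0 3 rfl rfl |>.mp hK) q inferInstance S
  have : (S : Subgroup K).Characteristic := S.characteristic_of_normal hSn
  let S' : Subgroup Q := (S : Subgroup K).map K.subtype
  have hS'n : S'.Normal := inferInstance
  have hS'ne : S' ≠ ⊥ := fun h =>
    S.ne_bot_of_dvd_card hdvd ((map_eq_bot_iff_of_injective _ K.subtype_injective).1 h)
  have hS'q : IsPGroup q S' := S.isPGroup'.map K.subtype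
  let P : Subgroup G := S'.comap f
  have hPn : P.Normal := inferInstance
  -- a Sylow subgroup of `P` surjects onto `S'`
  obtain ⟨T⟩ := (inferInstance : Nonempty (Sylow q P))
  let T' : Subgroup G := (T : Subgroup P).map P.subtype
  have hT'q : IsPGroup q T' := T.isPGroup'.map P.subtype
  have hT'S : T'.map f = S' := by
    have hle : T'.map f ≤ S' := by
      rintro _ ⟨_, ⟨t, -, rfl⟩, rfl⟩; exact t.2
    refine relIndex_eq_one.1 ?_ |> le_antisymm hle
    have h1 : (T'.map f).relIndex (P.map f) ∣ T'.relIndex P := by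
      have hkP : f.ker ≤ P := fun x hx => by
        show f x ∈ S'
        rw [MonoidHom.mem_ker.1 hx]; exact S'.one_mem
      rw [relIndex_map_map, sup_eq_left.2 hkP]
      exact relIndex_dvd_of_le_left _ le_sup_left
    have h2 : ¬ q ∣ T'.relIndex P := by
      have : T'.relIndex P = (T : Subgroup P).index := by
        rw [relIndex, subgroupOf, comap_map_eq_self_of_injective P.subtype_injective]
      rw [this]
      exact T.not_dvd_index
    rw [map_comap_eq_self_of_surjective hf] at h1
    obtain ⟨k, hk⟩ := IsPGroup.iff_card.1 hS'q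
    obtain ⟨i, -, hi⟩ := (Nat.dvd_prime_pow (Fact.out : q.Prime)).1
      (hk ▸ relIndex_dvd_card (T'.map f) S')
    rcases Nat.eq_zero_or_pos i with rfl | hi0
    · simpa using hi
    · exact absurd ((dvd_pow_self q hi0.ne').trans (hi ▸ h1)) h2
  -- `T'` fixes a nontrivial element of `V`
  let _ : MulAction T' V :=
    { smul := fun t v => ⟨(t : G) * v * (t : G)⁻¹, ‹V.Normal›.conj_mem v v.2 t⟩
      one_smul := fun v => Subtype.ext (by show (1 : G) * v * (1 : G)⁻¹ = v; group)
      mul_smul := fun a b v => Subtype.ext (by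
        show (a * b : G) * v * (a * b : G)⁻¹ = a * (b * v * (b : G)⁻¹) * (a : G)⁻¹
        group) }
  have h1fix : (1 : V) ∈ MulAction.fixedPoints T' V := fun t =>
    Subtype.ext (by show (t : G) * 1 * (t : G)⁻¹ = 1; group)
  obtain ⟨v, hv, hv1⟩ := hT'q.exists_fixed_point_of_prime_dvd_card_of_fixed_point V hq h1fix
  let Z : Subgroup G := V ⊓ centralizer (P : Set G)
  have hvZ : (v : G) ∈ Z := by
    refine ⟨v.2, mem_centralizer_iff.2 fun x (hx : f x ∈ S') => ?_⟩
    rw [← hT'S] at hx
    obtain ⟨t, ht, htx⟩ := hx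
    have hk : t⁻¹ * x ∈ f.ker := by simp [MonoidHom.mem_ker, htx]
    rw [hker, mem_centralizer_iff] at hk
    have hc1 : (v : G) * (t⁻¹ * x) = t⁻¹ * x * v := hk v v.2
    have hc2 : t * (v : G) * t⁻¹ = v := congrArg Subtype.val (hv ⟨t, ht⟩)
    calc x * (v : G) = t * (t⁻¹ * x * v) := by group
      _ = t * (v * (t⁻¹ * x)) := by rw [hc1]
      _ = (t * v * t⁻¹) * x := by group
      _ = _ := by rw [hc2]
  have hZn : Z.Normal := inferInstance
  have hZ : Z = V := hmin Z hZn inf_le_left fun h =>
    hv1 (Subtype.ext (mem_bot.1 (h ▸ hvZ)).symm)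
  refine hS'ne ((eq_bot_iff_forall _).2 fun s hs => ?_)
  obtain ⟨x, rfl⟩ := hf s
  rw [← MonoidHom.mem_ker, hker, mem_centralizer_iff]
  intro w hw
  have : w ∈ centralizer (P : Set G) := ((hZ.symm ▸ hw : w ∈ Z)).2
  exact (mem_centralizer_iff.1 this x hs).symm

/-! ## The main induction -/

theorem exists_centralizer_resIter_ne_bot {p : ℕ} [Fact p.Prime] (m : ℕ) :
    ∀ {G : Type u} [Group G] [Finite G] (A X : Subgroup G) [X.Normal],
      Cfsg.IsElementaryAbelian p A → Group.IsSolvable X → ¬ p ∣ Nat.card X →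
      resIter X m ≠ ⊥ →
      ∃ B : Subgroup G, B ≤ A ∧ B.relIndex A ≤ p ^ (m + 1) ∧
        resIter (X ⊓ centralizer (B : Set G)) m ≠ ⊥ := by
  induction m with
  | zero =>
    intro G _ _ A X _ hA _ hp hne
    rcases eq_or_ne A ⊥ with rfl | hA1
    · refine ⟨⊥, le_rfl, by simp [(Fact.out : p.Prime).one_le], ?_⟩
      intro h
      apply hne
      rw [resIter_zero] at h ⊢
      rw [← le_bot_iff, ← h]
      exact le_inf le_rfl fun x _ => by simp [mem_centralizer_iff]
    by_contra hcon
    push Not at hcon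
    refine hne (le_bot_iff.1 (Signalizer.le_of_hyperplanes hA hA1 ⊥ X hp
      (by rw [normalizer_eq_top]; exact le_top) fun H hH hi => (hcon H hH ?_).le))
    simp [hi]
  | succ m ihm =>
    intro G _ _
    induction hG : Nat.card G using Nat.strong_induction_on generalizing G with
    | _ N ihG =>
    subst hG
    intro A X hXn hA hsol hp hne
    have hAp : IsPGroup p A := Signalizer.isPGroup_of_elemAb hA
    have hmap : ∀ {Q : Type u} [Group Q] (f : G →* Q),
        Cfsg.IsElementaryAbelian p (A.map f) := fun f => by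
      refine ⟨⟨⟨?_⟩⟩, ?_⟩
      · rintro ⟨_, a, ha, rfl⟩ ⟨_, b, hb, rfl⟩
        refine Subtype.ext ?_
        show f a * f b = f b * f a
        rw [← map_mul, ← map_mul, Signalizer.commute_of_isMulCommutative hA.1 ha hb]
      · rintro _ ⟨a, ha, rfl⟩
        rw [← map_pow, hA.2 a ha, map_one]
    have hD : (resIter X (m + 1)).Normal := normal_resIter X (m + 1)
    have hK : (resIter X m).Normal := normal_resIter X m
    have hKX : resIter X m ≤ X := resIter_le X m
    obtain ⟨V, hVn, hVD, hV1, hmin⟩ := exists_minimal_normal (D := resIter X (m + 1)) hne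
    have hVX : V ≤ X := hVD.trans (resIter_le X _)
    by_cases hlt : V = resIter X (m + 1)
    swap
    · -- a smaller group
      let f := QuotientGroup.mk' V
      have hfs : Function.Surjective f := QuotientGroup.mk'_surjective V
      have hcard : Nat.card (G ⧸ V) < Nat.card G := by
        rw [card_eq_card_quotient_mul_card_subgroup V]
        exact lt_mul_of_one_lt_right Nat.card_pos ((one_lt_card_iff_ne_bot V).2 hV1)
      have : (X.map f).Normal := Normal.map inferInstance f hfs
      have hne' : resIter (X.map f) (m + 1) ≠ ⊥ := by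
        rw [← map_resIter, Ne, Subgroup.map_eq_bot_iff, QuotientGroup.ker_mk']
        exact fun h => hlt (le_antisymm hVD h)
      obtain ⟨B', hB', hi, hB'ne⟩ := ihG _ hcard rfl (A.map f) (X.map f) (hmap f)
        (Group.isSolvable_of_surjective (f.subgroupMap_surjective X))
        (fun h => hp (h.trans (card_map_dvd _ _))) hne'
      obtain ⟨B, hBA, hBi, hBle⟩ := exists_preimage f hAp hp hB'
      refine ⟨B, hBA, hBi ▸ hi, fun h => hB'ne (le_bot_iff.1 ?_)⟩
      refine (resIter_mono hBle (m + 1)).trans ?_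
      rw [← map_resIter, h, Subgroup.map_bot]
    -- `V` is the whole last residual
    obtain ⟨hVab, q, hq, hqV, hVq⟩ := minimal_normal_abelian_pgroup hV1
      (Group.isSolvable_of_isSolvable_injective (inclusion_injective hVX)) hmin
    have : Fact q.Prime := ⟨hq⟩
    have hVK : ⁅V, resIter X m⁆ = V := by
      rw [hlt, resIter_succ]; exact res_commutator_self _
    let C : Subgroup G := centralizer (V : Set G)
    have hCn : C.Normal := inferInstance
    let f := QuotientGroup.mk' C
    have hfs : Function.Surjective f := QuotientGroup.mk'_surjective C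
    have hkerf : f.ker = centralizer (V : Set G) := QuotientGroup.ker_mk' C
    have : (X.map f).Normal := Normal.map inferInstance f hfs
    have hne' : resIter (X.map f) m ≠ ⊥ := by
      rw [← map_resIter, Ne, Subgroup.map_eq_bot_iff, hkerf]
      intro h
      refine hV1 (le_bot_iff.1 (hVK ▸ ?_))
      exact le_of_eq (commutator_eq_bot_iff_le_centralizer.2
        (le_centralizer_iff.1 h))
    obtain ⟨B', hB', hi, hB'ne⟩ := ihm (A.map f) (X.map f) (hmap f)
        (Group.isSolvable_of_surjective (f.subgroupMap_surjective X))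
        (fun h => hp (h.trans (card_map_dvd _ _))) hne'
    obtain ⟨B, hBA, hBi, hBle⟩ := exists_preimage f hAp hp hB'
    obtain ⟨l₀, hl₀, hl₀C⟩ : ∃ l ∈ resIter (X ⊓ centralizer (B : Set G)) m, f l ≠ 1 := by
      by_contra hcon
      push Not at hcon
      refine hB'ne (le_bot_iff.1 ((resIter_mono hBle m).trans ?_))
      rw [← map_resIter]
      rintro _ ⟨l, hl, rfl⟩
      exact mem_bot.2 (hcon l hl)
    -- pass to an element of order prime to `q`
    have : ((resIter X m).map f).Normal := Normal.map inferInstance f hfs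
    have hKnil : Group.IsNilpotent ((resIter X m).map f) := isNilpotent_of_res_eq_bot (by
      rw [← map_res, ← resIter_succ, ← hlt, Subgroup.map_eq_bot_iff, hkerf]
      exact fun v hv => mem_centralizer_iff.2 fun w hw => hVab w hw v hv)
    have hKq := not_dvd_card_of_faithful f hfs hVq hqV hkerf hmin hKnil
    obtain ⟨l, hl, hlC, hlq⟩ : ∃ l ∈ resIter (X ⊓ centralizer (B : Set G)) m,
        f l ≠ 1 ∧ ¬ q ∣ orderOf l := by
      refine ⟨l₀ ^ (q ^ (orderOf l₀).factorization q), pow_mem hl₀ _, fun h => hl₀C ?_, ?_⟩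
      · rw [map_pow] at h
        have hfl : f l₀ ∈ (resIter X m).map f := mem_map_of_mem f (resIter_mono inf_le_left m hl₀)
        have hco : (orderOf (f l₀)).Coprime (q ^ (orderOf l₀).factorization q) :=
          Nat.Coprime.pow_right _ ((hq.coprime_iff_not_dvd.2 fun hd =>
            hKq (hd.trans (Subgroup.orderOf_dvd_natCard _ hfl))).symm)
        exact orderOf_eq_one_iff.1 (Nat.eq_one_of_dvd_coprimes hco dvd_rfl (orderOf_dvd_of_pow_eq_one h))
      · rw [orderOf_pow' _ (pow_ne_zero _ hq.ne_zero),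
          Nat.gcd_eq_right (Nat.ordProj_dvd _ _)]
        exact Nat.not_dvd_ordCompl hq (orderOf_pos l₀).ne'
    have hlV : ∃ v ∈ V, ⁅v, l⁆ ≠ 1 := by
      by_contra hcon
      push Not at hcon
      apply hlC
      rw [← MonoidHom.mem_ker, hkerf, mem_centralizer_iff]
      exact fun v hv => commutatorElement_eq_one_iff_mul_comm.1 (hcon v hv)
    -- a hyperplane of `B` with a fixed point moved by `l`
    obtain ⟨H, hHB, hHi, v, hv, hvH, hvl⟩ : ∃ H : Subgroup G, H ≤ B ∧ H.relIndex B ≤ p ∧
        ∃ v ∈ V, v ∈ centralizer (H : Set G) ∧ ⁅v, l⁆ ≠ 1 := by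
      rcases eq_or_ne B ⊥ with rfl | hB1
      · obtain ⟨v, hv, hvl⟩ := hlV
        exact ⟨⊥, le_rfl, by simp [(Fact.out : p.Prime).one_le], v, hv,
          by simp [mem_centralizer_iff], hvl⟩
      by_contra hcon
      push Not at hcon
      obtain ⟨v, hv, hvl⟩ := hlV
      have hBe : Cfsg.IsElementaryAbelian p B :=
        ⟨⟨⟨fun x y => Subtype.ext (Signalizer.commute_of_isMulCommutative hA.1 (hBA x.2) (hBA y.2))⟩⟩,
          fun b hb => hA.2 b (hBA hb)⟩
      have hW := Signalizer.le_of_hyperplanes hBe hB1 (centralizer ({l} : Set G)) V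
        (Signalizer.not_dvd_card_of_le hVX hp) (by rw [normalizer_eq_top]; exact le_top)
        fun H hH hi => fun w hw => by
          rw [mem_centralizer_singleton_iff]
          exact (commutatorElement_eq_one_iff_mul_comm.1 (hcon H hH hi.le w hw.1 hw.2))
      exact hvl (commutatorElement_eq_one_iff_mul_comm.2 (mem_centralizer_singleton_iff.1 (hW hv)))
    refine ⟨H, hHB.trans hBA, ?_, fun hbot => hvl ?_⟩
    · rw [← relIndex_mul_relIndex H B A hHB hBA, hBi, pow_succ' p (m + 1)]
      exact Nat.mul_le_mul hHi hi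
    let Y : Subgroup G := X ⊓ centralizer (H : Set G)
    let M : Subgroup G := resIter Y m
    have hlM : l ∈ M :=
      resIter_mono (inf_le_inf_left X (centralizer_le hHB)) m hl
    have hvY : v ∈ Y := ⟨hVX hv, hvH⟩
    have hw : ⁅v, l⁆ ∈ M := by
      have h1 := (mem_normalizer_iff.1 (le_normalizer_resIter Y m (le_normalizer hvY)) l).1 hlM
      exact M.mul_mem h1 (M.inv_mem hlM)
    have hMnil : Group.IsNilpotent M := isNilpotent_of_res_eq_bot (by rw [← resIter_succ]; exact hbot)
    have hwV : ⁅v, l⁆ ∈ V := by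
      have h1 := ‹V.Normal›.conj_mem _ (V.inv_mem hv) l
      have : ⁅v, l⁆ = v * (l * v⁻¹ * l⁻¹) := by rw [commutatorElement_def]; group
      rw [this]; exact V.mul_mem hv h1
    obtain ⟨k, hk⟩ := IsPGroup.iff_orderOf.1 hVq ⟨_, hwV⟩
    rw [orderOf_mk] at hk
    have hwl : Commute ⁅v, l⁆ l := congrArg Subtype.val
      (NilGroup.commute_of_coprime hMnil (x := (⟨_, hw⟩ : M)) (y := ⟨l, hlM⟩) (by
        rw [orderOf_mk, orderOf_mk, hk]
        exact (hq.coprime_iff_not_dvd.2 hlq).pow_left _)).eq
    -- `[v, l] ^ orderOf l = [v, l ^ orderOf l] = 1`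
    have hpow : ∀ j : ℕ, v * l ^ j * v⁻¹ = ⁅v, l⁆ ^ j * l ^ j := fun j => by
      rw [← conj_pow]
      rw [show v * l * v⁻¹ = ⁅v, l⁆ * l by rw [commutatorElement_def]; group, hwl.mul_pow]
    have h1 := hpow (orderOf l)
    rw [pow_orderOf_eq_one, mul_one, mul_one, mul_inv_cancel] at h1
    have h2 : orderOf ⁅v, l⁆ ∣ orderOf l := orderOf_dvd_of_pow_eq_one h1.symm
    rw [hk] at h2
    rcases Nat.eq_zero_or_pos k with rfl | hk0
    · exact orderOf_eq_one_iff.1 (by simpa using hk)
    · exact absurd ((dvd_pow_self q hk0.ne').trans h2) hlq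

/-- If every `C_X(a)` has Fitting length at most `n` and `A` has rank at least `n + 2`, so does `X`. -/
theorem resIter_eq_bot_of_centralizers {p : ℕ} [Fact p.Prime] {A X : Subgroup G} [X.Normal]
    (hA : Cfsg.IsElementaryAbelian p A) (hsol : Group.IsSolvable X) (hp : ¬ p ∣ Nat.card X) (n : ℕ)
    (hrank : p ^ (n + 2) ≤ Nat.card A)
    (h : ∀ a ∈ A, a ≠ 1 → resIter (X ⊓ centralizer ({a} : Set G)) n = ⊥) :
    resIter X n = ⊥ := by
  by_contra hne
  obtain ⟨B, hBA, hi, hB⟩ := exists_centralizer_resIter_ne_bot n A X hA hsol hp hne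
  have hB1 : B ≠ ⊥ := by
    rintro rfl
    rw [relIndex_bot_left] at hi
    exact absurd (hrank.trans hi)
      (not_le.2 (Nat.pow_lt_pow_right (Fact.out : p.Prime).one_lt (Nat.lt_succ_self _)))
  obtain ⟨b, hb, hb1⟩ := B.bot_or_exists_ne_one.resolve_left hB1
  exact hB (le_bot_iff.1 ((resIter_mono (inf_le_inf_left X (Signalizer.centralizer_le_singleton hb)) n).trans
    (h b (hBA hb) hb1).le))

/-- A normal chain with nilpotent-by-lower-central steps bounds the residual length. -/
theorem resIter_eq_bot_of_chain {H : Subgroup G} (n : ℕ) (F : Fin (n + 1) → Subgroup G)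
    (h0 : F 0 = ⊥) (hlast : H ≤ F (Fin.last n))
    (hstep : ∀ i : Fin n, ∃ k : ℕ, (F i.succ).lowerCentralSeries k ≤ F i.castSucc) :
    resIter H n = ⊥ := by
  suffices key : ∀ j : ℕ, ∀ i : Fin (n + 1), (i : ℕ) + j = n → resIter H j ≤ F i from
    le_bot_iff.1 ((key n 0 (by simp)).trans h0.le)
  intro j
  induction j with
  | zero =>
    intro i hi
    rw [show i = Fin.last n from Fin.ext (by simpa using hi)]
    exact hlast
  | succ j ih =>
    intro i hi
    obtain ⟨k, hk⟩ := hstep ⟨i, by omega⟩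
    have h1 := ih (Fin.succ ⟨i, by omega⟩) (by simp only [Fin.val_succ]; omega)
    rw [resIter_succ]
    exact (res_mono h1).trans ((iInf_le _ k).trans hk)

/-- Conversely the residual series is such a chain. -/
theorem chain_of_resIter_eq_bot [Group.IsSolvable G] (n : ℕ) (h : resIter (⊤ : Subgroup G) n = ⊥) :
    ∃ F : Fin (n + 1) → Subgroup G, F 0 = ⊥ ∧ F (Fin.last n) = ⊤ ∧ Monotone F ∧
      (∀ i, (F i).Normal) ∧ ∀ i : Fin n, ∃ k : ℕ, (F i.succ).lowerCentralSeries k ≤ F i.castSucc := by
  refine ⟨fun i => resIter ⊤ (n - i), by simpa using h, by simp [resIter_zero],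
    fun i j hij => ?_, fun i => normal_resIter _ _, fun i => ?_⟩
  · obtain ⟨d, hd⟩ : ∃ d, n - (i : ℕ) = (n - j) + d :=
      ⟨(n - (i : ℕ)) - (n - j), by have : (i : ℕ) ≤ j := hij; omega⟩
    show resIter ⊤ (n - (i : ℕ)) ≤ resIter ⊤ (n - (j : ℕ))
    rw [hd]
    clear hd
    induction d with
    | zero => exact le_rfl
    | succ d ihd => rw [← add_assoc, resIter_succ]; exact (res_le _).trans ihd
  · obtain ⟨N, hN⟩ := exists_res_eq (resIter (⊤ : Subgroup G) (n - (i.succ : Fin (n + 1)).val))
    refine ⟨N, ?_⟩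
    rw [hN N le_rfl, ← resIter_succ]
    show resIter ⊤ (n - (i.succ : Fin (n + 1)).val + 1) ≤
      resIter ⊤ (n - (i.castSucc : Fin (n + 1)).val)
    have : n - (i.castSucc : Fin (n + 1)).val = n - (i.succ : Fin (n + 1)).val + 1 := by
      simp only [Fin.val_succ, Fin.val_castSucc]; omega
    rw [this]

end Cfsg.Agent.FittingLength
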